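import Groth.Agent.AmpleLib.Pullback
import Groth.Prelude.Def_AbDual

/-!
# Base change of a representing scheme of the relative Picard functor
-/

set_option autoImplicit false
set_option backward.isDefEq.respectTransparency false
set_option backward.isDefEq.respectTransparency.types false
set_option linter.style.haveILetI false

universe u

open CategoryTheory CategoryTheory.Limits AlgebraicGeometry

noncomputable section

namespace Groth.Agent.PicCurveSmoothLib

theorem pullCl_pullCl {X Y Z : Scheme.{u}} (g : X ⟶ Y) (h : Y ⟶ Z) (c : PicF.Cl Z) :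
    PicF.pullCl g (PicF.pullCl h c) = PicF.pullCl (g ≫ h) c := by
  induction c using Quot.ind with
  | _ L => exact Quot.sound ⟨(Scheme.Modules.pullbackComp g h).app L⟩

theorem pullCl_id {X : Scheme.{u}} (c : PicF.Cl X) : PicF.pullCl (𝟙 X) c = c := by
  induction c using Quot.ind with
  | _ L => exact Quot.sound ⟨(Scheme.Modules.pullbackId X).app L⟩

theorem isInvertibleCl_pullCl {X Y : Scheme.{u}} (g : X ⟶ Y) {c : PicF.Cl Y} (h : PicF.IsInvertibleCl c) :
    PicF.IsInvertibleCl (PicF.pullCl g c) := by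
  obtain ⟨L, rfl, hL⟩ := h
  exact ⟨_, rfl, AmpleLib.isInvertible_pullback g hL⟩

variable {X S S' : Scheme.{u}} (f : X ⟶ S) (a : S' ⟶ S)

/-- The product over the new base is the product over the old one. -/
def bcIso (T : Over S') : PicF.XT (pullback.snd f a) T ≅ PicF.XT f ((Over.map a).obj T) :=
  pullbackLeftPullbackSndIso f a T.hom

theorem bcIso_hom_XTmap {T T' : Over S'} (g : T' ⟶ T) :
    (bcIso f a T').hom ≫ PicF.XTmap f ((Over.map a).map g) =
      PicF.XTmap (pullback.snd f a) g ≫ (bcIso f a T).hom := by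
  apply pullback.hom_ext <;> simp [bcIso, PicF.XTmap, pullback.map]

theorem bcIso_inv_XTmap {T T' : Over S'} (g : T' ⟶ T) :
    (bcIso f a T').inv ≫ PicF.XTmap (pullback.snd f a) g =
      PicF.XTmap f ((Over.map a).map g) ≫ (bcIso f a T).inv := by
  rw [Iso.inv_comp_eq, ← Category.assoc, Iso.eq_comp_inv, bcIso_hom_XTmap]

variable (P : Over S) (φ : ∀ T : Over S, PicF.Cl (PicF.XT f T) → (T ⟶ P))

/-- The scheme over the new base. -/
abbrev bcP : Over S' := Over.mk (pullback.snd P.hom a)

/-- The maps over the new base. -/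
def bcφ (T : Over S') (c : PicF.Cl (PicF.XT (pullback.snd f a) T)) : T ⟶ bcP a P :=
  Over.homMk (pullback.lift (φ ((Over.map a).obj T) (PicF.pullCl (bcIso f a T).inv c)).left T.hom
    (Over.w (φ ((Over.map a).obj T) (PicF.pullCl (bcIso f a T).inv c)))) (pullback.lift_snd _ _ _)

theorem bcφ_left_fst (T : Over S') (c : PicF.Cl (PicF.XT (pullback.snd f a) T)) :
    (bcφ f a P φ T c).left ≫ pullback.fst P.hom a =
      (φ ((Over.map a).obj T) (PicF.pullCl (bcIso f a T).inv c)).left := pullback.lift_fst _ _ _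

theorem hom_ext_bcP {T : Over S'} {g g' : T ⟶ bcP a P}
    (h : g.left ≫ pullback.fst P.hom a = g'.left ≫ pullback.fst P.hom a) : g = g' :=
  Over.OverMorphism.ext (pullback.hom_ext h ((Over.w g).trans (Over.w g').symm))

theorem isRelPicK_baseChange (hP : AbDual.IsRelPicK Scheme.fppfPrecoverage f P φ) :
    AbDual.IsRelPicK Scheme.fppfPrecoverage (pullback.snd f a) (bcP a P) (bcφ f a P φ) := by
  refine ⟨fun T T' g c hc => hom_ext_bcP a P ?_, fun T g => ?_, fun T c c' hc hc' h => ?_⟩
  · rw [bcφ_left_fst, pullCl_pullCl, bcIso_inv_XTmap, ← pullCl_pullCl,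
      hP.natural _ _ ((Over.map a).map g) _ (isInvertibleCl_pullCl _ hc), Over.comp_left, Over.comp_left,
      Category.assoc, bcφ_left_fst]
    rfl
  · let g₀ : (Over.map a).obj T ⟶ P := Over.homMk (g.left ≫ pullback.fst P.hom a) (by
      rw [Category.assoc, pullback.condition, ← Category.assoc]
      exact congrArg (· ≫ a) (Over.w g))
    obtain ⟨R, hR, hRs⟩ := hP.locallySurjective _ g₀
    refine ⟨R, hR, fun U u hu => ?_⟩
    obtain ⟨c, hc, hφ⟩ := hRs u hu
    let k : (Over.map a).obj (AbDual.ovr T u) ⟶ AbDual.ovr ((Over.map a).obj T) u :=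
      Over.homMk (𝟙 U) (by simp)
    refine ⟨PicF.pullCl ((bcIso f a _).hom ≫ PicF.XTmap f k) c, isInvertibleCl_pullCl _ hc, hom_ext_bcP a P ?_⟩
    rw [bcφ_left_fst, pullCl_pullCl, Iso.inv_hom_id_assoc, hP.natural _ _ k c hc, hφ]
    simp [k, g₀]
  · have h' : φ _ (PicF.pullCl (bcIso f a T).inv c) = φ _ (PicF.pullCl (bcIso f a T).inv c') :=
      Over.OverMorphism.ext (by
        rw [← bcφ_left_fst, ← bcφ_left_fst, h])
    obtain ⟨R, hR, hRi⟩ := hP.locallyInjective _ _ _ (isInvertibleCl_pullCl _ hc) (isInvertibleCl_pullCl _ hc') h'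
    refine ⟨R, hR, fun U u hu => ?_⟩
    let k : (Over.map a).obj (AbDual.ovr T u) ⟶ AbDual.ovr ((Over.map a).obj T) u :=
      Over.homMk (𝟙 U) (by simp)
    have hk : k ≫ AbDual.ovrHom ((Over.map a).obj T) u = (Over.map a).map (AbDual.ovrHom T u) :=
      Over.OverMorphism.ext (by simp [k])
    have e : (bcIso f a (AbDual.ovr T u)).hom ≫ PicF.XTmap f k ≫ PicF.XTmap f (AbDual.ovrHom ((Over.map a).obj T) u) ≫
        (bcIso f a T).inv = PicF.XTmap (pullback.snd f a) (AbDual.ovrHom T u) := by
      rw [← Category.assoc (PicF.XTmap f k), show PicF.XTmap f k ≫ PicF.XTmap f (AbDual.ovrHom ((Over.map a).obj T) u) =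
          PicF.XTmap f ((Over.map a).map (AbDual.ovrHom T u)) by
        rw [← hk]; apply pullback.hom_ext <;> simp [PicF.XTmap, pullback.map],
        ← Category.assoc, bcIso_hom_XTmap, Category.assoc, Iso.hom_inv_id, Category.comp_id]
    have h'' := congrArg (PicF.pullCl ((bcIso f a (AbDual.ovr T u)).hom ≫ PicF.XTmap f k)) (hRi u hu)
    simp only [pullCl_pullCl, Category.assoc] at h''
    rwa [e] at h''

end Groth.Agent.PicCurveSmoothLib
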