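import Groth.Agent.PicCurveSmoothLib.Lift
import Groth.Agent.PicCurveSmoothLib.BaseChange
import Groth.Agent.S12404
import Groth.Agent.S1488
import Groth.Agent.S9777
import Groth.Agent.GenBCLib.SteinUnit
import Groth.Agent.PicTrivLib.Const
import Groth.Agent.FibreVanishQC.Main
import Groth.Agent.ConormalLib.ThickenOps
import Groth.Agent.ConormalLib.UnivRing

/-!
# The relative Picard scheme of a family of curves is smooth
-/

set_option autoImplicit false
set_option backward.isDefEq.respectTransparency false
set_option backward.isDefEq.respectTransparency.types false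
set_option linter.style.haveILetI false
set_option maxHeartbeats 1600000

universe u

open CategoryTheory CategoryTheory.Limits AlgebraicGeometry
open Groth.Agent.PicLib Groth.Agent.AbDualLib

noncomputable section

namespace Groth.Agent.PicCurveSmoothLib

variable {X S : Scheme.{u}} {f : X ⟶ S}

theorem isPullback_XTmap' {T T' : Over S} (g : T' ⟶ T) :
    IsPullback (PicF.XTmap f g) (PicF.XTproj f T') (PicF.XTproj f T) g.left :=
  InvDescLib.isPullback_map g

theorem smooth_pic_of_section [IsProper f] [Flat f] [LocallyOfFinitePresentation f] [GeometricallyReduced f]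
    [GeometricallyConnected f] (σ : S ⟶ X) (hσ : σ ≫ f = 𝟙 S)
    (hdim : ∀ s : S, topologicalKrullDim ↥(f.fiber s) ≤ (1 : ℕ))
    (P : Over S) (φ : ∀ T : Over S, PicF.Cl (PicF.XT f T) → (T ⟶ P))
    (hP : AbDual.IsRelPicK Scheme.fppfPrecoverage f P φ) [LocallyOfFinitePresentation P.hom] :
    Smooth P.hom := by
  have ha : ∀ (T : Over S) (U : T.left.Opens), IsIso ((PicF.XTproj f T).app U) := by
    intro T U
    haveI : IsProper (PicF.XTproj f T) := MorphismProperty.pullback_snd _ _ inferInstance
    haveI : Flat (PicF.XTproj f T) := MorphismProperty.pullback_snd _ _ inferInstance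
    haveI : LocallyOfFinitePresentation (PicF.XTproj f T) := MorphismProperty.pullback_snd _ _ inferInstance
    haveI : GeometricallyReduced (PicF.XTproj f T) := MorphismProperty.pullback_snd _ _ inferInstance
    haveI : GeometricallyConnected (PicF.XTproj f T) := MorphismProperty.pullback_snd _ _ inferInstance
    exact (ConcreteCategory.isIso_iff_bijective _).2
      (GenBCLib.bijective_app (PicTrivLib.bijective_fiber (PicF.XTproj f T)) U)
  refine (Groth.Agent.S1488.result P.hom).2 ⟨inferInstance, fun A _ I hI a₀ b hb => ?_⟩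
  let m := Spec.map (CommRingCat.ofHom (Ideal.Quotient.mk I))
  let T : Over S := Over.mk b
  let g₀ : AbDual.ovr T m ⟶ P := Over.homMk a₀ hb.symm
  obtain ⟨c₀, hc₀⟩ := (Groth.Agent.S12404.result f σ hσ ha P φ hP (AbDual.ovr T m)).2 g₀
  obtain ⟨a, ha₁, ha₂⟩ := InvDescLib.exists_rig σ hσ c₀
  obtain ⟨L, hL, rfl⟩ := exists_cls a
  let i : PicF.XT f (AbDual.ovr T m) ⟶ PicF.XT f T := PicF.XTmap f (AbDual.ovrHom T m)
  let π := PicF.XTproj f T
  haveI : IsAffine T.left := inferInstanceAs (IsAffine (Spec (CommRingCat.of A)))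
  haveI : IsProper π := MorphismProperty.pullback_snd _ _ inferInstance
  haveI : (PicF.XT f T).IsSeparated := ⟨by
    rw [← terminal.comp_from π]
    infer_instance⟩
  have hth : MoreMor.IsFirstOrderThickening i :=
    ConormalLib.isFirstOrderThickening_of_isPullback (isPullback_XTmap' (AbDual.ovrHom T m)).flip
      (ConormalLib.isFirstOrderThickening_spec A I hI)
  haveI : IsClosedImmersion i :=
    MorphismProperty.of_isPullback (P := @IsClosedImmersion) (isPullback_XTmap' (AbDual.ovrHom T m)).flip
      (IsClosedImmersion.spec_of_surjective _ Ideal.Quotient.mk_surjective)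
  have hsq : ∀ W : (PicF.XT f T).Opens, IsAffineOpen W → ∀ x y, i.app W x = 0 → i.app W y = 0 → x * y = 0 := by
    intro W hW x y hx hy
    have hmem : ∀ z, i.app W z = 0 → z ∈ i.ker.ideal ⟨W, hW⟩ := fun z hz => by
      rw [Scheme.Hom.ker_apply, RingHom.mem_ker]; exact hz
    have h := congr($(hth.2).ideal ⟨W, hW⟩)
    rw [Scheme.IdealSheafData.ideal_mul] at h
    have hxy : x * y ∈ (i.ker.ideal * i.ker.ideal) ⟨W, hW⟩ := Ideal.mul_mem_mul (hmem x hx) (hmem y hy)
    rw [h] at hxy
    simpa using hxy
  have h2 : Subsingleton (CohBase.HU (⊤ : (PicF.XT f T).Opens) (Coh.toAb (ClSub.idealMod i.ker)) 2) := by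
    haveI := OmegaAffLib.isQCoh_idealMod i.ker
    exact FibreVanishQC.subsingleton_HU_affine π 1 (fun t =>
      (Groth.Agent.S9777.result f _ π (pullback.fst f T.hom) (IsPullback.of_hasPullback f T.hom) t).trans_le
        (hdim _)) _ 1 le_rfl
  obtain ⟨L', hL', ⟨e⟩⟩ := exists_lift_invertible i hsq h2 hL
  let c : Pic (PicF.XT f T) := cls hL' / pull π (pull (PicF.secT f σ hσ T) (cls hL'))
  have hsec : PicF.secT f σ hσ T ≫ π = 𝟙 _ := pullback.lift_snd _ _ _
  have hc : pull (PicF.secT f σ hσ T) c = 1 := by
    rw [map_div, ← pull_comp (PicF.secT f σ hσ T) π, hsec, pull_id, div_self']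
  have hLL' : pull i (cls hL') = cls hL := by
    rw [pull_cls]; exact (cls_eq_cls _ _).2 ⟨e⟩
  have hic : pull i c = cls hL := by
    rw [map_div, ← pull_comp i π, (isPullback_XTmap' (AbDual.ovrHom T m)).w, pull_comp, ← InvDescLib.pull_secT_XTmap,
      hLL', ha₂, map_one, div_one]
  let g := φ T (toCl c)
  refine ⟨g.left, ?_, Over.w g⟩
  have h := hP.natural T _ (AbDual.ovrHom T m) (toCl c) (InvDescLib.isInvertibleCl_toCl c)
  rw [← toCl_pull, hic, ha₁] at h
  exact congrArg CommaMorphism.left (h.symm.trans hc₀)

theorem smooth_pic [IsProper f] [Flat f] [LocallyOfFinitePresentation f] [GeometricallyReduced f]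
    [GeometricallyConnected f] [Surjective f] (hdim : ∀ s : S, topologicalKrullDim ↥(f.fiber s) ≤ (1 : ℕ))
    (P : Over S) (φ : ∀ T : Over S, PicF.Cl (PicF.XT f T) → (T ⟶ P))
    (hP : AbDual.IsRelPicK Scheme.fppfPrecoverage f P φ) [LocallyOfFinitePresentation P.hom] :
    Smooth P.hom := by
  haveI : IsProper (pullback.snd f f) := MorphismProperty.pullback_snd _ _ inferInstance
  haveI : Flat (pullback.snd f f) := MorphismProperty.pullback_snd _ _ inferInstance
  haveI : LocallyOfFinitePresentation (pullback.snd f f) := MorphismProperty.pullback_snd _ _ inferInstance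
  haveI : GeometricallyReduced (pullback.snd f f) := MorphismProperty.pullback_snd _ _ inferInstance
  haveI : GeometricallyConnected (pullback.snd f f) := MorphismProperty.pullback_snd _ _ inferInstance
  haveI : LocallyOfFinitePresentation (bcP f P).hom :=
    inferInstanceAs (LocallyOfFinitePresentation (pullback.snd P.hom f))
  have hs : Smooth (pullback.snd P.hom f) := smooth_pic_of_section (f := pullback.snd f f) (pullback.diagonal f)
    (pullback.diagonal_snd f) (fun z => (Groth.Agent.S9777.result f _ (pullback.snd f f) (pullback.fst f f)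
      (IsPullback.of_hasPullback f f) z).trans_le (hdim _))
    (bcP f P) (bcφ f f P φ) (isRelPicK_baseChange f f P φ hP)
  exact MorphismProperty.of_pullback_snd_of_descendsAlong (P := @Smooth) (Q := @Surjective ⊓ @Flat ⊓ @QuasiCompact)
    (f := P.hom) (g := f) ⟨⟨inferInstance, inferInstance⟩, inferInstance⟩ hs

end Groth.Agent.PicCurveSmoothLib
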