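import Groth.Agent.CohBase.Affine
import Groth.Agent.CohBase.Functorial
import Groth.Agent.OmegaAffLib.Ideal
import Groth.Agent.FibreVanishQC.CohUnion
import Groth.Agent.InvDescLib.Sections
import Groth.Agent.ParaFLib.Cocycle
import Groth.Agent.ParaFLib.Glue
import Groth.Agent.AmpleEmb.ComposeRel

/-!
# Lifting invertible modules along a square-zero closed immersion
-/

set_option autoImplicit false
set_option backward.isDefEq.respectTransparency false
set_option backward.isDefEq.respectTransparency.types false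
set_option linter.style.haveILetI false
set_option maxHeartbeats 1600000

universe u

open CategoryTheory CategoryTheory.Limits AlgebraicGeometry TopologicalSpace Opposite
open Groth.Agent.CohBase Groth.Agent.PullbackMod Groth.Agent.ParaFLib

noncomputable section

namespace Groth.Agent.PicCurveSmoothLib

variable {X : Scheme.{u}}

theorem isUnit_of_sq_zero_ker {A B : Type u} [CommRing A] [CommRing B] (φ : A →+* B) (hφ : Function.Surjective φ)
    (h : ∀ a b, φ a = 0 → φ b = 0 → a * b = 0) {a : A} (ha : IsUnit (φ a)) : IsUnit a := by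
  obtain ⟨c, hc⟩ := hφ ↑ha.unit⁻¹
  have h0 : φ (a * c - 1) = 0 := by
    rw [map_sub, map_mul, hc, map_one, IsUnit.mul_val_inv, sub_self]
  exact IsUnit.of_mul_eq_one (c * (1 - (a * c - 1))) (by linear_combination -(h _ _ h0 h0))

theorem mul_one_add {A : Type u} [CommRing A] {e01 e02 e03 e12 e13 e23 c0 c1 c2 c3 : A} (hu : IsUnit e03)
    (h13 : c1 * c3 = 0) (h02 : c0 * c2 = 0) (k0 : e12 * e23 = e13 * (1 + c0)) (k1 : e02 * e23 = e03 * (1 + c1))
    (k2 : e01 * e13 = e03 * (1 + c2)) (k3 : e01 * e12 = e02 * (1 + c3)) : c0 - c1 + c2 - c3 = 0 := by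
  have h : e03 * (c0 - c1 + c2 - c3) = 0 := by
    linear_combination e23 * k3 - e01 * k0 + (1 + c3) * k1 - (1 + c0) * k2 + e03 * h13 - e03 * h02
  exact (hu.mul_right_eq_zero).1 h

/-- With no second cohomology of the ideal, invertible modules extend over a square-zero thickening. -/
theorem exists_lift_invertible [X.IsSeparated] {Z : Scheme.{u}} (i : Z ⟶ X) [IsClosedImmersion i]
    (hsq : ∀ W : X.Opens, IsAffineOpen W → ∀ a b, i.app W a = 0 → i.app W b = 0 → a * b = 0)
    (h2 : Subsingleton (HU (⊤ : X.Opens) (Coh.toAb (ClSub.idealMod i.ker)) 2))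
    {L : Z.Modules} (hL : PicF.IsInvertible L) :
    ∃ L' : X.Modules, PicF.IsInvertible L' ∧ Nonempty ((Scheme.Modules.pullback i).obj L' ≅ L) := by
  classical
  let J := ClSub.idealMod i.ker
  haveI : Coh.IsQCoh J := OmegaAffLib.isQCoh_idealMod i.ker
  have hloc : ∀ x : X, ∃ W : X.Opens, IsAffineOpen W ∧ x ∈ W ∧ ∃ s : Γ(L, i ⁻¹ᵁ W), Gen (i ⁻¹ᵁ W) s := by
    intro x
    have hbase : ∃ A : X.Opens, x ∈ A ∧ ∃ s : Γ(L, i ⁻¹ᵁ A), Gen (i ⁻¹ᵁ A) s := by
      by_cases hx : x ∈ Set.range i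
      · obtain ⟨z, rfl⟩ := hx
        obtain ⟨U, s, hz, hs⟩ := ParaFLib.exists_gen_nhd hL z
        obtain ⟨A, hA, hAU⟩ : ∃ A : Set X, IsOpen A ∧ i ⁻¹' A = U :=
          i.isClosedEmbedding.isInducing.isOpen_iff.1 U.2
        have e : i ⁻¹ᵁ ⟨A, hA⟩ ≤ U := fun w hw => hAU.le hw
        exact ⟨⟨A, hA⟩, show z ∈ i ⁻¹' A from hAU.ge hz, _, hs.res e⟩
      · refine ⟨⟨(Set.range i)ᶜ, i.isClosedEmbedding.isClosed_range.isOpen_compl⟩, hx, 0, fun V hV => ?_⟩
        have hbot : V = ⊥ := le_bot_iff.1 fun w hw => (hV hw ⟨w, rfl⟩ : False).elim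
        subst hbot
        haveI : Subsingleton Γ(Z, ⊥) :=
          (CommRingCat.subsingleton_of_isTerminal Z.sheaf.isTerminalOfEmpty : _)
        haveI : Subsingleton Γ(L, ⊥) := Module.subsingleton Γ(Z, ⊥) _
        exact ⟨fun a b _ => Subsingleton.elim _ _, fun t => ⟨0, Subsingleton.elim _ _⟩⟩
    obtain ⟨A, hxA, s, hs⟩ := hbase
    obtain ⟨_, ⟨W : X.Opens, (hW : IsAffineOpen W), rfl⟩, hxW, hWA⟩ :=
      X.isBasis_affineOpens.exists_subset_of_mem_open hxA A.2
    exact ⟨W, hW, hxW, _, hs.res (i.preimage_mono hWA)⟩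
  choose W hWaff hxW s hs using hloc
  have hcov : (⊤ : X.Opens) ≤ iSup W := fun x _ => Opens.mem_iSup.2 ⟨x, hxW x⟩
  have haff : ∀ (n : ℕ) (p : Fin (n + 1) → X), IsAffineOpen (inter W p) := fun n p =>
    FibreVanishQC.isAffineOpen_iInf_fin _ fun a => hWaff (p a)
  -- the transition functions and their lifts
  have hu : ∀ p : Fin 2 → X, ∃ v : Γ(X, inter W p), IsUnit v ∧
      L.presheaf.map (homOfLE (i.preimage_mono (inter_le W p 0))).op (s (p 0)) =
        i.app _ v • L.presheaf.map (homOfLE (i.preimage_mono (inter_le W p 1))).op (s (p 1)) := by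
    intro p
    obtain ⟨c, hc, hc'⟩ := ((hs (p 0)).res (i.preimage_mono (inter_le W p 0))).exists_unit
      ((hs (p 1)).res (i.preimage_mono (inter_le W p 1)))
    obtain ⟨v, rfl⟩ := i.app_surjective _ (haff 1 p) c
    exact ⟨v, isUnit_of_sq_zero_ker (i.app _).hom (i.app_surjective _ (haff 1 p)) (hsq _ (haff 1 p)) hc, hc'.symm⟩
  choose v hvu hv using hu
  let R : ∀ (p : Fin 2 → X) (O : X.Opens), O ≤ inter W p → Γ(X, O) := fun p O h =>
    X.presheaf.map (homOfLE h).op (v p)
  have hRc : ∀ {p p' : Fin 2 → X} (_ : p = p') (O : X.Opens) (h : O ≤ inter W p) (h' : O ≤ inter W p'),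
      R p O h = R p' O h' := by rintro p p' rfl O h h'; rfl
  have hRu : ∀ p O h, IsUnit (R p O h) := fun p O h => (hvu p).map _
  have hRres : ∀ (p : Fin 2 → X) {O O' : X.Opens} (h : O ≤ inter W p) (h' : O' ≤ O),
      X.presheaf.map (homOfLE h').op (R p O h) = R p O' (h'.trans h) := fun p O O' h h' => by
    show X.presheaf.map _ (X.presheaf.map _ _) = X.presheaf.map _ _
    rw [← CommRingCat.comp_apply, ← Functor.map_comp]
    rfl
  have hRs : ∀ (p : Fin 2 → X) (O : X.Opens) (h : O ≤ inter W p),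
      L.presheaf.map (homOfLE (i.preimage_mono (h.trans (inter_le W p 0)))).op (s (p 0)) =
        i.app O (R p O h) • L.presheaf.map (homOfLE (i.preimage_mono (h.trans (inter_le W p 1)))).op (s (p 1)) := by
    intro p O h
    have h1 := congrArg (L.presheaf.map (homOfLE (i.preimage_mono h)).op) (hv p)
    rw [L.map_smul, ParaFLib.res_res, ParaFLib.res_res] at h1
    refine h1.trans ?_
    congr 1
    exact (ConcreteCategory.congr_hom (i.naturality (homOfLE h).op) _).symm
  have hsect : ∀ (O : X.Opens), IsAffineOpen O → ∀ a : Γ(X, O), i.app O a = 0 →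
      ∃ m : Γ(J, O), OmegaSh.idealSect i.ker O m = a := fun O hO a ha =>
    (OmegaAffLib.mem_range_idealSect i.ker ⟨O, hO⟩ a).1 (by
      rw [Scheme.Hom.ker_apply, RingHom.mem_ker]; exact ha)
  have hker : ∀ (O : X.Opens), IsAffineOpen O → ∀ m : Γ(J, O), i.app O (OmegaSh.idealSect i.ker O m) = 0 :=
    fun O hO m => by
      have h := (OmegaAffLib.mem_range_idealSect i.ker ⟨O, hO⟩ _).2 ⟨m, rfl⟩
      rwa [Scheme.Hom.ker_apply, RingHom.mem_ker] at h
  have hres : ∀ {O O' : X.Opens} (h : O' ≤ O) (m : Γ(J, O)),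
      OmegaSh.idealSect i.ker O' (J.presheaf.map (homOfLE h).op m) =
        X.presheaf.map (homOfLE h).op (OmegaSh.idealSect i.ker O m) :=
    fun h m => DCohLib.app_natural (ClSub.idealModι i.ker) h m
  -- the obstruction
  have hle : ∀ (t : Fin 3 → X) (k : Fin 3), inter W t ≤ inter W (t ∘ k.succAbove) :=
    fun t k => inter_comp_le W t k.succAbove
  have hc : ∀ t : Fin 3 → X, ∃ m : Γ(J, inter W t),
      R (t ∘ (2 : Fin 3).succAbove) _ (hle t 2) * R (t ∘ (0 : Fin 3).succAbove) _ (hle t 0) =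
        R (t ∘ (1 : Fin 3).succAbove) _ (hle t 1) * (1 + OmegaSh.idealSect i.ker _ m) := by
    intro t
    obtain ⟨r, hr⟩ := (hRu (t ∘ (1 : Fin 3).succAbove) _ (hle t 1)).exists_left_inv
    have h0 : i.app _ (R (t ∘ (1 : Fin 3).succAbove) _ (hle t 1)) =
        i.app _ (R (t ∘ (2 : Fin 3).succAbove) _ (hle t 2) * R (t ∘ (0 : Fin 3).succAbove) _ (hle t 0)) := by
      refine ((hs (t 2)) (i ⁻¹ᵁ inter W t) (i.preimage_mono (inter_le W t 2))).1 ?_
      show i.app _ _ • _ = i.app _ _ • _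
      have ha := hRs (t ∘ (2 : Fin 3).succAbove) _ (hle t 2)
      have hb := hRs (t ∘ (0 : Fin 3).succAbove) _ (hle t 0)
      have hd := hRs (t ∘ (1 : Fin 3).succAbove) _ (hle t 1)
      rw [map_mul, mul_smul]
      change L.presheaf.map (homOfLE (i.preimage_mono (inter_le W t 0))).op (s (t 0)) =
        i.app _ (R _ _ (hle t 2)) • L.presheaf.map (homOfLE (i.preimage_mono (inter_le W t 1))).op (s (t 1)) at ha
      change L.presheaf.map (homOfLE (i.preimage_mono (inter_le W t 1))).op (s (t 1)) =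
        i.app _ (R _ _ (hle t 0)) • L.presheaf.map (homOfLE (i.preimage_mono (inter_le W t 2))).op (s (t 2)) at hb
      change L.presheaf.map (homOfLE (i.preimage_mono (inter_le W t 0))).op (s (t 0)) =
        i.app _ (R _ _ (hle t 1)) • L.presheaf.map (homOfLE (i.preimage_mono (inter_le W t 2))).op (s (t 2)) at hd
      rw [← hd, ha, hb]
    obtain ⟨m, hm⟩ := hsect _ (haff 2 t) (r * (R (t ∘ (2 : Fin 3).succAbove) _ (hle t 2) *
      R (t ∘ (0 : Fin 3).succAbove) _ (hle t 0)) - 1) (by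
        rw [map_sub, map_one, map_mul, ← h0, ← map_mul, hr, map_one, sub_self])
    refine ⟨m, ?_⟩
    rw [hm, add_sub_cancel, ← mul_assoc, mul_comm (R _ _ (hle t 1)) r, hr, one_mul]
  choose c hc using hc
  have hcs : ∀ {t : Fin 3 → X} (O : X.Opens) (h : O ≤ inter W t),
      R (t ∘ (2 : Fin 3).succAbove) O (h.trans (hle t 2)) * R (t ∘ (0 : Fin 3).succAbove) O (h.trans (hle t 0)) =
        R (t ∘ (1 : Fin 3).succAbove) O (h.trans (hle t 1)) *
          (1 + OmegaSh.idealSect i.ker O (J.presheaf.map (homOfLE h).op (c t))) := by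
    intro t O h
    have h1 := congrArg (X.presheaf.map (homOfLE h).op) (hc t)
    rw [map_mul, map_mul, map_add, map_one, hRres, hRres, hRres, ← hres] at h1
    exact h1
  have hzero : ∀ O : X.Opens, IsAffineOpen O → ∀ a b : Γ(J, O),
      OmegaSh.idealSect i.ker O a * OmegaSh.idealSect i.ker O b = 0 := fun O hO a b =>
    hsq O hO _ _ (hker O hO a) (hker O hO b)
  -- it is a cocycle
  have hcyc : cdiff W (Coh.toAb J).obj 2 c = 0 := by
    funext q
    refine OmegaSh.idealModι_app_injective _ i.ker ?_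
    show OmegaSh.idealSect i.ker _ _ = OmegaSh.idealSect i.ker _ 0
    rw [cdiff_apply, Fin.sum_univ_four]
    simp only [Fin.val_zero, Fin.val_one, pow_zero, pow_one, one_smul, neg_smul,
      show ((2 : Fin 4) : ℕ) = 2 from rfl, show ((3 : Fin 4) : ℕ) = 3 from rfl, neg_one_sq,
      show ((-1 : ℤ) ^ 3) = -1 by norm_num]
    rw [map_zero, map_add, map_add, map_add, map_neg, map_neg, ← sub_eq_add_neg, ← sub_eq_add_neg]
    have hl : ∀ a b : Fin 4, inter W q ≤ inter W (q ∘ ![a, b]) := fun a b => inter_comp_le W q _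
    have hl3 : ∀ k : Fin 4, inter W q ≤ inter W (q ∘ k.succAbove) := fun k => inter_comp_le W q _
    have key : ∀ (k : Fin 4) (a b d : Fin 4), k.succAbove 0 = a → k.succAbove 1 = b → k.succAbove 2 = d →
        R _ _ (hl a b) * R _ _ (hl b d) = R _ _ (hl a d) *
          (1 + OmegaSh.idealSect i.ker _ (J.presheaf.map (homOfLE (hl3 k)).op (c (q ∘ k.succAbove)))) := by
      rintro k a b d rfl rfl rfl
      have := hcs _ (hl3 k)
      rw [hRc (p' := q ∘ ![k.succAbove 0, k.succAbove 1]) (funext fun j => by fin_cases j <;> rfl) _ _ (hl _ _),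
        hRc (p := (q ∘ k.succAbove) ∘ (0 : Fin 3).succAbove) (p' := q ∘ ![k.succAbove 1, k.succAbove 2])
          (funext fun j => by fin_cases j <;> rfl) _ _ (hl _ _),
        hRc (p := (q ∘ k.succAbove) ∘ (1 : Fin 3).succAbove) (p' := q ∘ ![k.succAbove 0, k.succAbove 2])
          (funext fun j => by fin_cases j <;> rfl) _ _ (hl _ _)] at this
      exact this
    exact mul_one_add (hRu _ _ (hl 0 3)) (hzero _ (haff 3 q) _ _) (hzero _ (haff 3 q) _ _)
      (key 0 1 2 3 rfl rfl rfl) (key 1 0 2 3 rfl rfl rfl) (key 2 0 1 3 rfl rfl rfl) (key 3 0 1 2 rfl rfl rfl)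
  -- a primitive
  have hac : Acyclic W (Coh.toAb J) := acyclic_of_affine J W fun n p => haff n p
  obtain ⟨b, hb⟩ : (c : CC W (Coh.toAb J).obj 2) ∈ (cdiff W (Coh.toAb J).obj 1).range :=
    (cmp_eq_zero_iff W hcov hac (⟨c, hcyc⟩ : Zc W (Coh.toAb J).obj 2)).1 (Subsingleton.elim _ _)
  have le2 : ∀ x y : X, W x ⊓ W y ≤ inter W ![x, y] := fun x y => le_iInf fun j => by
    fin_cases j
    exacts [inf_le_left, inf_le_right]
  have haff₂ : ∀ x y, IsAffineOpen (W x ⊓ W y) := fun x y => (hWaff x).inf (hWaff y)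
  let β : ∀ x y : X, Γ(X, W x ⊓ W y) := fun x y =>
    OmegaSh.idealSect i.ker _ (J.presheaf.map (homOfLE (le2 x y)).op (b ![x, y]))
  let η : ∀ x y : X, Γ(X, W x ⊓ W y) := fun x y => R ![x, y] _ (le2 x y) * (1 - β x y)
  have hηu : ∀ x y, IsUnit (η x y) := fun x y => by
    refine (hRu _ _ _).mul (IsUnit.of_mul_eq_one (1 + β x y) ?_)
    linear_combination -(hzero _ (haff₂ x y) (J.presheaf.map (homOfLE (le2 x y)).op (b ![x, y]))
      (J.presheaf.map (homOfLE (le2 x y)).op (b ![x, y])))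
  have hcoc : ParaFLib.IsCocycle W fun x y => (hηu x y).unit := by
    intro x y z
    simp only [IsUnit.unit_spec, η, β, map_mul, map_sub, map_one, hRres, ← hres]
    let O := W x ⊓ W y ⊓ W z
    have hO : O ≤ inter W ![x, y, z] := le_iInf fun j => by
      fin_cases j
      exacts [inf_le_left.trans inf_le_left, inf_le_left.trans inf_le_right, inf_le_right]
    have e := congrArg (fun m => OmegaSh.idealSect i.ker O (J.presheaf.map (homOfLE hO).op m)) (congrFun hb ![x, y, z])
    simp only at e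
    rw [cdiff_apply, Fin.sum_univ_three] at e
    simp only [Fin.val_zero, Fin.val_one, pow_zero, pow_one, one_smul, neg_smul,
      show ((2 : Fin 3) : ℕ) = 2 from rfl, neg_one_sq, map_add, map_neg] at e
    have hcb : ∀ {p q : Fin 2 → X} (_ : p = q) (h₁ : inter W ![x, y, z] ≤ inter W p) (h : O ≤ inter W q),
        J.presheaf.map (homOfLE hO).op (CohBase.res (Coh.toAb J).obj h₁ (b p)) =
          J.presheaf.map (homOfLE h).op (b q) := by
      rintro p q rfl h₁ h
      exact ParaFLib.res_res h₁ hO _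
    have k := hcs O hO
    have p2 : ![x, y, z] ∘ (2 : Fin 3).succAbove = ![x, y] := funext fun j => by fin_cases j <;> rfl
    have p0 : ![x, y, z] ∘ (0 : Fin 3).succAbove = ![y, z] := funext fun j => by fin_cases j <;> rfl
    have p1 : ![x, y, z] ∘ (1 : Fin 3).succAbove = ![x, z] := funext fun j => by fin_cases j <;> rfl
    have l2 : O ≤ inter W ![x, y] := le_iInf fun j => by
      fin_cases j; exacts [inf_le_left.trans inf_le_left, inf_le_left.trans inf_le_right]
    have l0 : O ≤ inter W ![y, z] := le_iInf fun j => by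
      fin_cases j; exacts [inf_le_left.trans inf_le_right, inf_le_right]
    have l1 : O ≤ inter W ![x, z] := le_iInf fun j => by
      fin_cases j; exacts [inf_le_left.trans inf_le_left, inf_le_right]
    rw [hRc p2 O _ l2, hRc p0 O _ l0, hRc p1 O _ l1, ← e] at k
    rw [hcb p2 _ l2, hcb p0 _ l0, hcb p1 _ l1] at k
    have hz := hzero O ((haff₂ x y).inf (hWaff z))
    let m2 := J.presheaf.map (homOfLE l2).op (b ![x, y])
    let m0 := J.presheaf.map (homOfLE l0).op (b ![y, z])
    let m1 := J.presheaf.map (homOfLE l1).op (b ![x, z])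
    simp only [ParaFLib.res_res]
    show R _ O l1 * (1 - OmegaSh.idealSect i.ker O m1) = R _ O l2 * (1 - OmegaSh.idealSect i.ker O m2) *
      (R _ O l0 * (1 - OmegaSh.idealSect i.ker O m0))
    simp only [m0, m1, m2] at hz ⊢
    linear_combination -(1 - OmegaSh.idealSect i.ker O m2 - OmegaSh.idealSect i.ker O m0) * k +
      R _ O l1 * (hz m0 m0 + 2 * hz m0 m2 + hz m2 m2 - hz m1 m0 - hz m1 m2) - R _ O l2 * R _ O l0 * hz m0 m2
  obtain ⟨L', t, hL', ht, htt⟩ := ParaFLib.exists_invertible_of_cocycle W _ (top_le_iff.1 hcov) hcoc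
  refine ⟨L', hL', ParaFLib.nonempty_iso_of_bases (U := fun a => i ⁻¹ᵁ W a)
    (s := fun a => pullMap i L' le_rfl (t a)) (t := s) ?_
    (fun a => AmpleEmb.gen_pullMap i hL' (ht a)) hs (fun a b => i.app (W a ⊓ W b) (η a b))
    (fun a b => ?_) fun a b => ?_⟩
  · exact top_le_iff.1 fun z _ => by
      obtain ⟨a, ha⟩ := Opens.mem_iSup.1 (hcov (show i z ∈ (⊤ : X.Opens) from trivial))
      exact Opens.mem_iSup.2 ⟨a, ha⟩
  · have h := InvDescLib.pullMap_smul_res i (inf_le_right : W a ⊓ W b ≤ W b) (htt a b).symm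
    refine Eq.trans ?_ h.symm
    exact (pullMap_res i L' le_rfl (inf_le_left : W a ⊓ W b ≤ W a) (i.preimage_mono inf_le_left) le_rfl (t a) :)
  · simp only [η, β, map_mul, map_sub, map_one, hker _ (haff₂ a b), sub_zero, mul_one]
    exact hRs ![a, b] (W a ⊓ W b) (le2 a b)

end Groth.Agent.PicCurveSmoothLib
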